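import Mathlib
import Cfsg.Prelude.Def_LocalEven
import Cfsg.Agent.Helper5.CharP

/-!
Kieler Lemma package (helper5): basic definitions.

`OmZ p R x` : `x` commutes with every element of order dividing `p` of the centre of `R`,
i.e. `x ∈ C(Ω₁(Z(R)))`.
-/

set_option autoImplicit false

namespace Cfsg.Agent.Kieler

variable {G : Type*} [Group G]

/-- `x` commutes with every element `z` of the centre of `R` with `z ^ p = 1`. -/
def OmZ (p : ℕ) (R : Subgroup G) (x : G) : Prop :=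
  ∀ z ∈ R, (∀ s ∈ R, s * z = z * s) → z ^ p = 1 → x * z = z * x

/-- Bridge to the Prelude's `omegaOne`. -/
theorem kl_mem_centralizer_omegaOne_iff (p : ℕ) (R : Subgroup G) (x : G) :
    x ∈ Subgroup.centralizer ((Cfsg.omegaOne p (R ⊓ Subgroup.centralizer (R : Set G)) : Subgroup G) : Set G) ↔
      OmZ p R x := by
  unfold Cfsg.omegaOne OmZ
  rw [Subgroup.centralizer_closure, Subgroup.mem_centralizer_iff]
  constructor
  · intro h z hzR hzc hzp
    have hz : z ∈ {y : G | y ∈ R ⊓ Subgroup.centralizer (R : Set G) ∧ y ^ p = 1} := by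
      refine ⟨Subgroup.mem_inf.mpr ⟨hzR, ?_⟩, hzp⟩
      rw [Subgroup.mem_centralizer_iff]
      intro s hs
      exact hzc s hs
    exact (h z hz).symm
  · intro h z hz
    obtain ⟨hz1, hzp⟩ := hz
    obtain ⟨hzR, hzc⟩ := Subgroup.mem_inf.mp hz1
    rw [Subgroup.mem_centralizer_iff] at hzc
    exact (h z hzR (fun s hs => hzc s hs) hzp).symm

theorem OmZ.one (p : ℕ) (R : Subgroup G) : OmZ p R (1 : G) := by
  intro z _ _ _
  simp

theorem OmZ.mul {p : ℕ} {R : Subgroup G} {x y : G} (hx : OmZ p R x) (hy : OmZ p R y) :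
    OmZ p R (x * y) := by
  intro z hz hzc hzp
  rw [mul_assoc, hy z hz hzc hzp, ← mul_assoc, hx z hz hzc hzp, mul_assoc]

theorem OmZ.inv {p : ℕ} {R : Subgroup G} {x : G} (hx : OmZ p R x) : OmZ p R x⁻¹ := by
  intro z hz hzc hzp
  have := hx z hz hzc hzp
  calc x⁻¹ * z = x⁻¹ * (z * x) * x⁻¹ := by group
    _ = x⁻¹ * (x * z) * x⁻¹ := by rw [this]
    _ = z * x⁻¹ := by group

/-- Elements of `R` itself satisfy `OmZ p R`. -/
theorem OmZ.of_mem {p : ℕ} {R : Subgroup G} {x : G} (hx : x ∈ R) : OmZ p R x := by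
  intro z _ hzc _
  exact hzc x hx

/-- The subgroup `{x | OmZ p R x}`. -/
def omzSub (p : ℕ) (R : Subgroup G) : Subgroup G where
  carrier := {x | OmZ p R x}
  one_mem' := OmZ.one p R
  mul_mem' := fun hx hy => hx.mul hy
  inv_mem' := fun hx => hx.inv

@[simp] theorem mem_omzSub (p : ℕ) (R : Subgroup G) (x : G) : x ∈ omzSub p R ↔ OmZ p R x := Iff.rfl

theorem le_omzSub (p : ℕ) (R : Subgroup G) : R ≤ omzSub p R := fun _ hx => OmZ.of_mem hx

end Cfsg.Agent.Kieler
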