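import Mathlib
import Cfsg.Agent.Kieler.Defs
import Cfsg.Agent.Helper5.WCCharP

/-!
Kieler Lemma package, P5 helpers: the generated subgroups `klP` and the lemma that a subnormal
subgroup containing a Sylow `p`-subgroup contains every `p`-element.
-/

set_option autoImplicit false

namespace Cfsg.Agent.Kieler

open Cfsg.Agent.Helper5

/-- A subnormal subgroup containing a Sylow `p`-subgroup contains every `p`-element. -/
theorem kl_mem_of_subnormal_of_sylow_le {Y : Type*} [Group Y] [Finite Y] {p : ℕ} [Fact p.Prime]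
    (P : Sylow p Y) {R : Subgroup Y} (hR : R.IsSubnormal) (hPR : (P : Subgroup Y) ≤ R)
    {x : Y} (hx : ∃ k : ℕ, orderOf x = p ^ k) : x ∈ R := by
  induction hR with
  | top => exact Subgroup.mem_top x
  | step A B hAB hB hN ih =>
    have hPB : (P : Subgroup Y) ≤ B := hPR.trans hAB
    have hxB : x ∈ B := ih hPB
    set P' : Sylow p ↥B := P.subtype hPB with hP'
    have hxp : IsPGroup p (Subgroup.zpowers (⟨x, hxB⟩ : ↥B)) := by
      obtain ⟨k, hk⟩ := hx
      apply IsPGroup.of_card (n := k)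
      rw [Nat.card_zpowers, Subgroup.orderOf_mk]
      exact hk
    obtain ⟨Q, hQ⟩ := hxp.exists_le_sylow
    obtain ⟨g, hg⟩ := MulAction.exists_smul_eq ↥B Q P'
    have h1 : (⟨x, hxB⟩ : ↥B) ∈ (Q : Subgroup ↥B) := hQ (Subgroup.mem_zpowers _)
    have h2 : g * ⟨x, hxB⟩ * g⁻¹ ∈ (P' : Subgroup ↥B) := by
      rw [← hg, Sylow.coe_subgroup_smul]
      have := Subgroup.smul_mem_pointwise_smul _ (MulAut.conj g) _ h1
      simpa [MulAut.smul_def] using this
    have h3 : g * ⟨x, hxB⟩ * g⁻¹ ∈ A.subgroupOf B := by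
      rw [Subgroup.mem_subgroupOf]
      have h4 : ((g * ⟨x, hxB⟩ * g⁻¹ : ↥B) : Y) ∈ (P : Subgroup Y) := by
        have := h2
        rw [hP', Sylow.coe_subtype, Subgroup.mem_subgroupOf] at this
        exact this
      exact hPR h4
    have h5 : g⁻¹ * (g * ⟨x, hxB⟩ * g⁻¹) * g⁻¹⁻¹ ∈ A.subgroupOf B := hN.conj_mem _ h3 g⁻¹
    have h6 : g⁻¹ * (g * ⟨x, hxB⟩ * g⁻¹) * g⁻¹⁻¹ = (⟨x, hxB⟩ : ↥B) := by group
    rw [h6, Subgroup.mem_subgroupOf] at h5
    exact h5

section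

variable {H : Type*} [Group H]

/-- The subgroup generated by the `p`-elements of `X` satisfying `OmZ p T`. -/
def klP (p : ℕ) (T X : Subgroup H) : Subgroup H :=
  Subgroup.closure {x : H | x ∈ X ∧ OmZ p T x ∧ ∃ k : ℕ, orderOf x = p ^ k}

theorem klP_mono (p : ℕ) (T : Subgroup H) {X X' : Subgroup H} (h : X ≤ X') :
    klP p T X ≤ klP p T X' := by
  apply Subgroup.closure_mono
  rintro x ⟨hx, hxO, hxp⟩
  exact ⟨h hx, hxO, hxp⟩

theorem klP_le (p : ℕ) (T X : Subgroup H) : klP p T X ≤ X ⊓ omzSub p T := by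
  rw [klP, Subgroup.closure_le]
  rintro x ⟨hx, hxO, -⟩
  exact Subgroup.mem_inf.mpr ⟨hx, hxO⟩

theorem kl_conj_mem_klP (p : ℕ) (T X : Subgroup H) (y : H) (hy : y ∈ X ⊓ omzSub p T)
    (k : H) (hk : k ∈ klP p T X) : y * k * y⁻¹ ∈ klP p T X := by
  obtain ⟨hyX, hyO⟩ := Subgroup.mem_inf.mp hy
  unfold klP at hk ⊢
  induction hk using Subgroup.closure_induction with
  | mem x hx =>
    obtain ⟨hxX, hxO, hxp⟩ := hx
    apply Subgroup.subset_closure
    refine ⟨X.mul_mem (X.mul_mem hyX hxX) (X.inv_mem hyX), ?_, ?_⟩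
    · exact (OmZ.mul (OmZ.mul hyO hxO) (OmZ.inv hyO))
    · obtain ⟨k, hk⟩ := hxp
      refine ⟨k, ?_⟩
      have : y * x * y⁻¹ = MulAut.conj y x := by simp [MulAut.conj_apply]
      rw [this, MulEquiv.orderOf_eq]
      exact hk
  | one => simp
  | mul a b _ _ iha ihb =>
    have : y * (a * b) * y⁻¹ = (y * a * y⁻¹) * (y * b * y⁻¹) := by group
    rw [this]; exact Subgroup.mul_mem _ iha ihb
  | inv a _ iha =>
    have : y * a⁻¹ * y⁻¹ = (y * a * y⁻¹)⁻¹ := by group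
    rw [this]; exact Subgroup.inv_mem _ iha

theorem kl_le_normalizer_klP (p : ℕ) (T X : Subgroup H) :
    X ⊓ omzSub p T ≤ Subgroup.normalizer ((klP p T X : Subgroup H) : Set H) := by
  intro y hy
  apply mem_normalizer_of_conj_mem_both
  · exact kl_conj_mem_klP p T X y hy
  · intro k hk
    have := kl_conj_mem_klP p T X y⁻¹ (Subgroup.inv_mem _ hy) k hk
    simpa using this

/-- The elements of `T ⊓ X` are generators of `klP p T X`, for a `p`-group `T`. -/
theorem kl_inf_le_klP {p : ℕ} [Fact p.Prime] (T X : Subgroup H) (hT : IsPGroup p ↥T) :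
    T ⊓ X ≤ klP p T X := by
  intro x hx
  obtain ⟨hxT, hxX⟩ := Subgroup.mem_inf.mp hx
  apply Subgroup.subset_closure
  refine ⟨hxX, OmZ.of_mem hxT, ?_⟩
  obtain ⟨k, hk⟩ := (IsPGroup.iff_orderOf.mp hT) ⟨x, hxT⟩
  exact ⟨k, by rw [← hk, Subgroup.orderOf_mk]⟩

end

end Cfsg.Agent.Kieler
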