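import Mathlib

/-!
Kieler Lemma package (helper5), P1: the norm map `N a = ∏_{q ∈ X/P} q a q⁻¹` on an abelian subgroup `A`
normalized by `X`, in ambient form (the map is hidden behind an existential).
-/

set_option autoImplicit false

namespace Cfsg.Agent.Kieler

section

variable {Γ : Type*} [Group Γ]

/-- Conjugation by an element of `X` as a monoid endomorphism of the subgroup `A` it normalizes. -/
def klConj (X A : Subgroup Γ) (hXA : X ≤ Subgroup.normalizer (A : Set Γ)) (g : ↥X) : ↥A →* ↥A where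
  toFun a := ⟨(g : Γ) * a * (g : Γ)⁻¹, (Subgroup.mem_normalizer_iff.mp (hXA g.2) a).mp a.2⟩
  map_one' := by
    apply Subtype.ext
    simp
  map_mul' a b := by
    apply Subtype.ext
    simp only [Subgroup.coe_mul]
    group

@[simp] theorem klConj_coe (X A : Subgroup Γ) (hXA : X ≤ Subgroup.normalizer (A : Set Γ)) (g : ↥X) (a : ↥A) :
    ((klConj X A hXA g a : ↥A) : Γ) = (g : Γ) * a * (g : Γ)⁻¹ := rfl

theorem klConj_mul (X A : Subgroup Γ) (hXA : X ≤ Subgroup.normalizer (A : Set Γ)) (g h : ↥X) (a : ↥A) :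
    klConj X A hXA (g * h) a = klConj X A hXA g (klConj X A hXA h a) := by
  apply Subtype.ext
  simp only [klConj_coe, Subgroup.coe_mul]
  group

end

/-- **Norm lemma (ambient form).** `A` abelian, normalized by `X`; `P ≤ X`; `n = |X : P|`.
There is a map `N` on `A` (the norm `a ↦ ∏_{q ∈ X/P} q a q⁻¹`) with:
(1) `N a ∈ A`; (2) if `P` centralizes `a` then `X` centralizes `N a`; (3) if `X` acts trivially on `a` modulo a subgroup `B ≤ A`
then `N a ≡ a ^ n` modulo `B`; (4) `N` is multiplicative; (5) `N` commutes with conjugation by any `s` normalizing `X`, `P`, `A`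
(on `P`-fixed elements). -/
theorem kl_norm_exists {Γ : Type*} [Group Γ] [Finite Γ] (X P A : Subgroup Γ) (hPX : P ≤ X)
    (hXA : X ≤ Subgroup.normalizer (A : Set Γ)) (hA : ∀ a ∈ A, ∀ b ∈ A, a * b = b * a) :
    ∃ N : Γ → Γ,
      (∀ a ∈ A, N a ∈ A) ∧
      (∀ a ∈ A, (∀ t ∈ P, t * a = a * t) → ∀ g ∈ X, g * N a = N a * g) ∧
      (∀ B : Subgroup Γ, B ≤ A → ∀ a ∈ A, (∀ g ∈ X, g * a * g⁻¹ * a⁻¹ ∈ B) →
          N a * (a ^ P.relIndex X)⁻¹ ∈ B) ∧
      (∀ a ∈ A, ∀ b ∈ A, N (a * b) = N a * N b) ∧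
      (∀ s : Γ, s ∈ Subgroup.normalizer (X : Set Γ) → s ∈ Subgroup.normalizer (P : Set Γ) →
          s ∈ Subgroup.normalizer (A : Set Γ) →
          ∀ a ∈ A, (∀ t ∈ P, t * a = a * t) → N (s * a * s⁻¹) = s * N a * s⁻¹) := by
  classical
  letI : CommGroup ↥A :=
    { (inferInstance : Group ↥A) with mul_comm := fun a b => Subtype.ext (hA a a.2 b b.2) }
  set P' : Subgroup ↥X := P.subgroupOf X with hP'
  letI : Fintype (↥X ⧸ P') := Fintype.ofFinite _
  -- the norm on `↥A`
  set Nf : ↥A → ↥A := fun a => ∏ q : ↥X ⧸ P', klConj X A hXA q.out a with hNf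
  -- independence of the section
  have hsec : ∀ (a : ↥A), (∀ t ∈ P, t * (a : Γ) = a * t) → ∀ (r : ↥X ⧸ P' → ↥X) (τ : (↥X ⧸ P') ≃ (↥X ⧸ P')),
      (∀ q, (QuotientGroup.mk (r q) : ↥X ⧸ P') = τ q) → ∏ q : ↥X ⧸ P', klConj X A hXA (r q) a = Nf a := by
    intro a ha r τ hr
    have h1 : ∀ q, klConj X A hXA (r q) a = klConj X A hXA (τ q).out a := by
      intro q
      have h2 : (QuotientGroup.mk (r q) : ↥X ⧸ P') = QuotientGroup.mk ((τ q).out) := by
        rw [hr q, QuotientGroup.out_eq']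
      rw [QuotientGroup.eq] at h2
      -- (r q)⁻¹ * (τ q).out ∈ P'
      set t : ↥X := (r q)⁻¹ * (τ q).out with ht
      have htP : (t : Γ) ∈ P := by
        have := h2
        rw [hP', Subgroup.mem_subgroupOf] at this
        exact this
      have hout : (τ q).out = r q * t := by rw [ht]; group
      rw [hout, klConj_mul]
      congr 1
      apply Subtype.ext
      rw [klConj_coe]
      have := ha t htP
      rw [this]
      group
    calc ∏ q : ↥X ⧸ P', klConj X A hXA (r q) a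
        = ∏ q : ↥X ⧸ P', klConj X A hXA (τ q).out a := Finset.prod_congr rfl (fun q _ => h1 q)
      _ = ∏ q : ↥X ⧸ P', klConj X A hXA q.out a :=
          Equiv.prod_comp τ (fun q => klConj X A hXA q.out a)
      _ = Nf a := rfl
  refine ⟨fun a => if h : a ∈ A then ((Nf ⟨a, h⟩ : ↥A) : Γ) else 1, ?_, ?_, ?_, ?_, ?_⟩
  · -- (1)
    intro a ha
    simp only [dif_pos ha]
    exact (Nf ⟨a, ha⟩).2
  · -- (2)
    intro a ha hfix g hg
    simp only [dif_pos ha]
    have key : klConj X A hXA ⟨g, hg⟩ (Nf ⟨a, ha⟩) = Nf ⟨a, ha⟩ := by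
      rw [hNf]
      simp only
      rw [map_prod]
      have : ∀ q : ↥X ⧸ P', klConj X A hXA ⟨g, hg⟩ (klConj X A hXA q.out ⟨a, ha⟩) =
          klConj X A hXA (⟨g, hg⟩ * q.out) ⟨a, ha⟩ := fun q => (klConj_mul X A hXA _ _ _).symm
      rw [Finset.prod_congr rfl (fun q _ => this q)]
      apply hsec ⟨a, ha⟩ hfix (fun q => ⟨g, hg⟩ * q.out) (MulAction.toPerm (⟨g, hg⟩ : ↥X))
      intro q
      rw [MulAction.toPerm_apply]
      conv_rhs => rw [← QuotientGroup.out_eq' q]
      rfl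
    have := congrArg (Subtype.val) key
    rw [klConj_coe] at this
    simp only at this
    calc g * ((Nf ⟨a, ha⟩ : ↥A) : Γ) = g * ((Nf ⟨a, ha⟩ : ↥A) : Γ) * g⁻¹ * g := by group
      _ = ((Nf ⟨a, ha⟩ : ↥A) : Γ) * g := by rw [this]
  · -- (3)
    intro B hBA a ha hmod
    simp only [dif_pos ha]
    have hcard : Fintype.card (↥X ⧸ P') = P.relIndex X := by
      rw [Subgroup.relIndex, Subgroup.index, Nat.card_eq_fintype_card]
    have h1 : Nf ⟨a, ha⟩ * (⟨a, ha⟩ ^ P.relIndex X)⁻¹ =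
        ∏ q : ↥X ⧸ P', (klConj X A hXA q.out ⟨a, ha⟩ * (⟨a, ha⟩ : ↥A)⁻¹) := by
      rw [Finset.prod_mul_distrib, Finset.prod_const, Finset.card_univ, hcard, inv_pow]
    have h2 : (∏ q : ↥X ⧸ P', (klConj X A hXA q.out ⟨a, ha⟩ * (⟨a, ha⟩ : ↥A)⁻¹)) ∈ B.subgroupOf A := by
      apply Subgroup.prod_mem
      intro q _
      rw [Subgroup.mem_subgroupOf]
      simp only [Subgroup.coe_mul, klConj_coe, Subgroup.coe_inv]
      exact hmod _ (q.out).2
    rw [← h1, Subgroup.mem_subgroupOf] at h2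
    simpa using h2
  · -- (4)
    intro a ha b hb
    simp only [dif_pos ha, dif_pos hb, dif_pos (A.mul_mem ha hb)]
    have : Nf ⟨a * b, A.mul_mem ha hb⟩ = Nf ⟨a, ha⟩ * Nf ⟨b, hb⟩ := by
      rw [hNf]
      simp only
      rw [← Finset.prod_mul_distrib]
      apply Finset.prod_congr rfl
      intro q _
      rw [← map_mul]
      rfl
    rw [this]
    rfl
  · -- (5)
    intro s hsX hsP hsA a ha hfix
    have ha' : s * a * s⁻¹ ∈ A := (Subgroup.mem_normalizer_iff.mp hsA a).mp ha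
    simp only [dif_pos ha, dif_pos ha']
    -- conjugation by `s` on `↥X`
    let φ : ↥X ≃ ↥X :=
      { toFun := fun e => ⟨s * e * s⁻¹, (Subgroup.mem_normalizer_iff.mp hsX e).mp e.2⟩
        invFun := fun e => ⟨s⁻¹ * e * s, by
          have := (Subgroup.mem_normalizer_iff.mp hsX (s⁻¹ * e * s)).mpr (by
            have : s * (s⁻¹ * (e : Γ) * s) * s⁻¹ = e := by group
            rw [this]; exact e.2)
          exact this⟩
        left_inv := fun e => by apply Subtype.ext; simp only; group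
        right_inv := fun e => by apply Subtype.ext; simp only; group }
    have hφrel : ∀ e₁ e₂ : ↥X, (QuotientGroup.leftRel P') e₁ e₂ ↔
        (QuotientGroup.leftRel P') (φ e₁) (φ e₂) := by
      intro e₁ e₂
      rw [QuotientGroup.leftRel_apply, QuotientGroup.leftRel_apply, hP', Subgroup.mem_subgroupOf,
        Subgroup.mem_subgroupOf]
      have : (((φ e₁)⁻¹ * φ e₂ : ↥X) : Γ) = s * ((e₁⁻¹ * e₂ : ↥X) : Γ) * s⁻¹ := by
        simp only [Subgroup.coe_mul, Subgroup.coe_inv]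
        show (s * (e₁ : Γ) * s⁻¹)⁻¹ * (s * (e₂ : Γ) * s⁻¹) = _
        group
      rw [this]
      exact Subgroup.mem_normalizer_iff.mp hsP _
    let τ : (↥X ⧸ P') ≃ (↥X ⧸ P') := Quotient.congr φ hφrel
    -- the element `s a s⁻¹` is `P`-fixed
    have hfix' : ∀ t ∈ P, t * (s * a * s⁻¹) = (s * a * s⁻¹) * t := by
      intro t ht
      have ht' : s⁻¹ * t * s ∈ P := by
        have := (Subgroup.mem_normalizer_iff.mp hsP (s⁻¹ * t * s)).mpr (by
          have : s * (s⁻¹ * t * s) * s⁻¹ = t := by group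
          rw [this]; exact ht)
        exact this
      have := hfix _ ht'
      calc t * (s * a * s⁻¹) = s * ((s⁻¹ * t * s) * a) * s⁻¹ := by group
        _ = s * (a * (s⁻¹ * t * s)) * s⁻¹ := by rw [this]
        _ = (s * a * s⁻¹) * t := by group
    have h1 := hsec ⟨s * a * s⁻¹, ha'⟩ hfix' (fun q => φ q.out) τ (by
      intro q
      conv_rhs => rw [← QuotientGroup.out_eq' q]
      rfl)
    -- compare
    let cs : ↥A →* ↥A :=
      { toFun := fun b => ⟨s * b * s⁻¹, (Subgroup.mem_normalizer_iff.mp hsA b).mp b.2⟩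
        map_one' := by apply Subtype.ext; simp
        map_mul' := fun b c => by apply Subtype.ext; simp only [Subgroup.coe_mul]; group }
    have h2 : Nf ⟨s * a * s⁻¹, ha'⟩ = cs (Nf ⟨a, ha⟩) := by
      rw [← h1, hNf]
      simp only
      rw [map_prod]
      apply Finset.prod_congr rfl
      intro q _
      apply Subtype.ext
      show ((φ q.out : ↥X) : Γ) * (s * a * s⁻¹) * ((φ q.out : ↥X) : Γ)⁻¹ =
        s * ((q.out : ↥X) * a * ((q.out : ↥X) : Γ)⁻¹) * s⁻¹
      show (s * ((q.out : ↥X) : Γ) * s⁻¹) * (s * a * s⁻¹) * (s * ((q.out : ↥X) : Γ) * s⁻¹)⁻¹ = _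
      group
    rw [h2]
    rfl

end Cfsg.Agent.Kieler
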