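import Mathlib
import Cfsg.Agent.Kieler.Defs
import Cfsg.Agent.Kieler.Norm
import Cfsg.Agent.Helper5.CharP2
import Cfsg.Agent.Helper5.WCCharP
import Cfsg.Agent.Helper5.PGroupCenter
import Cfsg.Agent.Helper1.Subnormal

/-!
Kieler Lemma package, P3: `C_E(Ω₁Z(S)) ≤ C_E(Ω₁Z(S ∩ E))` for `E ⊴ K`, `K` of characteristic `p`.
-/

set_option autoImplicit false

namespace Cfsg.Agent.Kieler

open Cfsg.Agent.Helper5

section

variable {K : Type*} [Group K]

/-- `u = (u ^ n) ^ a` for some integer `a`, when `u ^ p = 1` and `p ∤ n`. -/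
theorem kl_exists_zpow {p : ℕ} [hp : Fact p.Prime] {n : ℕ} (hn : ¬ p ∣ n) (u : K) (hu : u ^ p = 1) :
    ∃ a : ℤ, (u ^ n) ^ a = u := by
  have hcop : Nat.Coprime n p := ((Nat.Prime.coprime_iff_not_dvd hp.out).mpr hn).symm
  have hb := Nat.gcd_eq_gcd_ab n p
  rw [hcop] at hb
  refine ⟨Nat.gcdA n p, ?_⟩
  have h1 : u ^ ((n : ℤ) * Nat.gcdA n p + (p : ℤ) * Nat.gcdB n p) = u := by
    rw [← hb]; simp
  rw [zpow_add, zpow_mul, zpow_mul, zpow_natCast, zpow_natCast, hu, one_zpow, mul_one] at h1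
  exact h1

/-- The elements of order dividing `p` of the centre of `R`, as a subgroup. -/
def omZ (p : ℕ) (R : Subgroup K) : Subgroup K where
  carrier := {u | u ∈ R ∧ (∀ s ∈ R, s * u = u * s) ∧ u ^ p = 1}
  one_mem' := ⟨R.one_mem, fun s _ => by simp, one_pow p⟩
  mul_mem' := by
    rintro u v ⟨hu, huc, hup⟩ ⟨hv, hvc, hvp⟩
    refine ⟨R.mul_mem hu hv, ?_, ?_⟩
    · intro s hs
      rw [← mul_assoc, huc s hs, mul_assoc, hvc s hs, mul_assoc]
    · have hcomm : Commute u v := (hvc u hu)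
      rw [hcomm.mul_pow, hup, hvp, one_mul]
  inv_mem' := by
    rintro u ⟨hu, huc, hup⟩
    refine ⟨R.inv_mem hu, ?_, by rw [inv_pow, hup, inv_one]⟩
    intro s hs
    have := huc s hs
    calc s * u⁻¹ = u⁻¹ * (u * s) * u⁻¹ := by group
      _ = u⁻¹ * (s * u) * u⁻¹ := by rw [this]
      _ = u⁻¹ * s := by group

theorem mem_omZ (p : ℕ) (R : Subgroup K) (u : K) :
    u ∈ omZ p R ↔ u ∈ R ∧ (∀ s ∈ R, s * u = u * s) ∧ u ^ p = 1 := Iff.rfl

theorem omZ_le (p : ℕ) (R : Subgroup K) : omZ p R ≤ R := fun _ h => h.1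

/-- If `s` normalizes `R` then it normalizes `omZ p R`. -/
theorem kl_conj_mem_omZ (p : ℕ) (R : Subgroup K) (s : K) (hs : s ∈ Subgroup.normalizer (R : Set K))
    (u : K) (hu : u ∈ omZ p R) : s * u * s⁻¹ ∈ omZ p R := by
  obtain ⟨huR, huc, hup⟩ := hu
  refine ⟨conj_mem_of_mem_normalizer R s hs u huR, ?_, ?_⟩
  · intro t ht
    have ht' : s⁻¹ * t * s ∈ R := conj_inv_mem_of_mem_normalizer R s hs t ht
    have := huc _ ht'
    calc t * (s * u * s⁻¹) = s * ((s⁻¹ * t * s) * u) * s⁻¹ := by group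
      _ = s * (u * (s⁻¹ * t * s)) * s⁻¹ := by rw [this]
      _ = s * u * s⁻¹ * t := by group
  · rw [conj_pow, hup]; group

theorem kl_normalizer_le_normalizer_omZ (p : ℕ) (R : Subgroup K) :
    Subgroup.normalizer (R : Set K) ≤ Subgroup.normalizer ((omZ p R : Subgroup K) : Set K) := by
  intro s hs
  apply mem_normalizer_of_conj_mem_both
  · exact kl_conj_mem_omZ p R s hs
  · intro u hu
    have := kl_conj_mem_omZ p R s⁻¹ (Subgroup.inv_mem _ hs) u hu
    simpa using this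

/-- Fixed point modulo `U₁`: `U₁ < U ≤ S`, both normalized by the `p`-group `S`. -/
theorem kl_fixed_mod [Finite K] {p : ℕ} [Fact p.Prime] (S U U₁ : Subgroup K) (hS : IsPGroup p ↥S)
    (hUS : U ≤ S) (hU₁U : U₁ ≤ U) (hne : ¬ U ≤ U₁)
    (hSU : S ≤ Subgroup.normalizer (U : Set K)) (hSU₁ : S ≤ Subgroup.normalizer (U₁ : Set K)) :
    ∃ u ∈ U, u ∉ U₁ ∧ ∀ s ∈ S, s * u * s⁻¹ * u⁻¹ ∈ U₁ := by
  haveI hn1 : (U₁.subgroupOf S).Normal := by
    constructor
    intro n hn g
    rw [Subgroup.mem_subgroupOf] at hn ⊢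
    exact conj_mem_of_mem_normalizer U₁ g (hSU₁ g.2) n hn
  haveI hn2 : (U.subgroupOf S).Normal := by
    constructor
    intro n hn g
    rw [Subgroup.mem_subgroupOf] at hn ⊢
    exact conj_mem_of_mem_normalizer U g (hSU g.2) n hn
  set π := QuotientGroup.mk' (U₁.subgroupOf S) with hπ
  have hQ : IsPGroup p (↥S ⧸ U₁.subgroupOf S) := hS.to_quotient _
  haveI : ((U.subgroupOf S).map π).Normal :=
    Subgroup.Normal.map hn2 π (QuotientGroup.mk'_surjective _)
  have hne' : (U.subgroupOf S).map π ≠ ⊥ := by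
    intro hbot
    apply hne
    intro u hu
    have hmem : π ⟨u, hUS hu⟩ ∈ (U.subgroupOf S).map π :=
      Subgroup.mem_map_of_mem π (by rw [Subgroup.mem_subgroupOf]; exact hu)
    rw [hbot, Subgroup.mem_bot, hπ, QuotientGroup.mk'_apply, QuotientGroup.eq_one_iff,
      Subgroup.mem_subgroupOf] at hmem
    exact hmem
  obtain ⟨xb, hxb, hxb1, hxbc⟩ := exists_ne_one_mem_center_of_normal hQ ((U.subgroupOf S).map π) hne'
  obtain ⟨u', hu'0, rfl⟩ := hxb
  have hu' : (u' : K) ∈ U := Subgroup.mem_subgroupOf.mp hu'0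
  refine ⟨(u' : K), hu', ?_, ?_⟩
  · intro hmem
    apply hxb1
    rw [hπ, QuotientGroup.mk'_apply, QuotientGroup.eq_one_iff, Subgroup.mem_subgroupOf]
    exact hmem
  · intro s hs
    have h1 := hxbc (π ⟨s, hs⟩)
    have h2 : π (⟨s, hs⟩ * u' * ⟨s, hs⟩⁻¹ * u'⁻¹) = 1 := by
      rw [map_mul, map_mul, map_mul, h1, map_inv, map_inv]
      group
    rw [hπ, QuotientGroup.mk'_apply, QuotientGroup.eq_one_iff, Subgroup.mem_subgroupOf] at h2
    simpa using h2

end

theorem kl_normal_down {K : Type*} [Group K] [Finite K] {p : ℕ} [Fact p.Prime]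
    (hK : HasCharP p K) (E : Subgroup K) [hEn : E.Normal] (S : Sylow p K) {x : K} (hx : x ∈ E)
    (h : OmZ p (S : Subgroup K) x) : OmZ p ((S : Subgroup K) ⊓ E) x := by
  classical
  set Sg : Subgroup K := (S : Subgroup K) with hSg
  set SE : Subgroup K := Sg ⊓ E with hSE
  set X : Subgroup K := E ⊓ omzSub p Sg with hX
  have hSp : IsPGroup p ↥Sg := S.isPGroup'
  have hxX : x ∈ X := Subgroup.mem_inf.mpr ⟨hx, h⟩
  -- (f1)
  have hSEX : SE ≤ X := by
    intro y hy
    obtain ⟨hyS, hyE⟩ := Subgroup.mem_inf.mp hy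
    exact Subgroup.mem_inf.mpr ⟨hyE, OmZ.of_mem hyS⟩
  have hSES : SE ≤ Sg := inf_le_left
  -- (f2)
  have hconjX : ∀ s ∈ Sg, ∀ y ∈ X, s * y * s⁻¹ ∈ X := by
    intro s hs y hy
    obtain ⟨hyE, hyO⟩ := Subgroup.mem_inf.mp hy
    refine Subgroup.mem_inf.mpr ⟨hEn.conj_mem y hyE s, ?_⟩
    have hsO : s ∈ omzSub p Sg := le_omzSub p Sg hs
    exact (omzSub p Sg).mul_mem ((omzSub p Sg).mul_mem hsO hyO) ((omzSub p Sg).inv_mem hsO)
  have hSnX : Sg ≤ Subgroup.normalizer (X : Set K) := by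
    intro s hs
    apply mem_normalizer_of_conj_mem_both
    · exact hconjX s hs
    · intro y hy
      have := hconjX s⁻¹ (Sg.inv_mem hs) y hy
      simpa using this
  have hSnSE : Sg ≤ Subgroup.normalizer (SE : Set K) := by
    intro s hs
    apply mem_normalizer_inf
    · exact Subgroup.le_normalizer hs
    · rw [Subgroup.normalizer_eq_top]; exact Subgroup.mem_top s
  -- (f3)
  have hXchar : HasCharP p ↥X :=
    hK.of_normalized X ((pCore_le_sylow S).trans hSnX)
  set QX : Subgroup K := (Cfsg.pCore p ↥X).map X.subtype with hQX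
  have hQXX : QX ≤ X := pCore_map_subtype_le p X
  have hcharX : ∀ c ∈ X, (∀ q ∈ QX, c * q = q * c) → c ∈ QX := by
    intro c hc hcq
    have h1 : (⟨c, hc⟩ : ↥X) ∈ Subgroup.centralizer (Cfsg.pCore p ↥X : Set ↥X) := by
      rw [mem_centralizer_pCore_iff, Subgroup.mem_centralizer_iff]
      intro q hq
      exact (hcq q hq).symm
    have h2 := hXchar h1
    exact ⟨⟨c, hc⟩, h2, rfl⟩
  -- index of `SE` in `X` is prime to `p`
  have hidx : ¬ p ∣ SE.relIndex X := by
    have h1 : ¬ p ∣ Sg.relIndex E := Cfsg.Agent.Helper1.sylow_relIndex_subnormal p S hEn.isSubnormal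
    have h2 : SE.relIndex E = Sg.relIndex E := Subgroup.inf_relIndex_right Sg E
    have h3 : SE.relIndex X * X.relIndex E = SE.relIndex E :=
      Subgroup.relIndex_mul_relIndex SE X E hSEX inf_le_left
    intro hdvd
    apply h1
    rw [← h2, ← h3]
    exact Dvd.dvd.mul_right hdvd _
  -- (f4)
  have hQXSE : QX ≤ SE := by
    have hp1 : IsPGroup p ↥(SE.subgroupOf X) := by
      have : IsPGroup p ↥SE := hSp.to_le hSES
      exact this.comap_subtype
    have hp2 : ¬ p ∣ (SE.subgroupOf X).index := hidx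
    have hle : Cfsg.pCore p ↥X ≤ (hp1.toSylow hp2 : Subgroup ↥X) := pCore_le_sylow (hp1.toSylow hp2)
    rintro _ ⟨q, hq, rfl⟩
    have := hle hq
    rw [IsPGroup.toSylow_coe] at this
    exact Subgroup.mem_subgroupOf.mp this
  -- (f5)
  set A : Subgroup K := QX ⊓ Subgroup.centralizer (QX : Set K) with hAdef
  have hA : ∀ a ∈ A, ∀ b ∈ A, a * b = b * a := by
    intro a ha b hb
    have h1 := (Subgroup.mem_inf.mp hb).2
    rw [Subgroup.mem_centralizer_iff] at h1
    exact h1 a (Subgroup.mem_inf.mp ha).1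
  have hXnQX : X ≤ Subgroup.normalizer (QX : Set K) := le_normalizer_pCore_map_subtype p X
  have hnA : Subgroup.normalizer (QX : Set K) ≤ Subgroup.normalizer (A : Set K) := by
    intro g hg
    exact mem_normalizer_inf QX _ g hg (normalizer_le_normalizer_centralizer QX hg)
  have hXA : X ≤ Subgroup.normalizer (A : Set K) := hXnQX.trans hnA
  have hSnA : Sg ≤ Subgroup.normalizer (A : Set K) :=
    (hSnX.trans (normalizer_le_normalizer_pCore_map_subtype p X)).trans hnA
  have hASE : A ≤ SE := inf_le_left.trans hQXSE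
  -- the subgroups `U` and `U₁`
  set U : Subgroup K := omZ p SE with hU
  set U₁ : Subgroup K := U ⊓ Subgroup.centralizer (X : Set K) with hU₁
  have hUA : U ≤ A := by
    intro u hu
    obtain ⟨huSE, huc, -⟩ := hu
    have hcq : ∀ q ∈ QX, u * q = q * u := fun q hq => (huc q (hQXSE hq)).symm
    have huQ : u ∈ QX := hcharX u (hSEX huSE) hcq
    refine Subgroup.mem_inf.mpr ⟨huQ, ?_⟩
    rw [Subgroup.mem_centralizer_iff]
    intro q hq
    exact (hcq q hq).symm
  -- it suffices that `U ≤ U₁`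
  suffices hsuff : U ≤ U₁ by
    intro z hz hzc hzp
    have hzU : z ∈ U := ⟨hz, hzc, hzp⟩
    have := (Subgroup.mem_inf.mp (hsuff hzU)).2
    rw [Subgroup.mem_centralizer_iff] at this
    exact this x hxX
  by_contra hne
  have hSnU : Sg ≤ Subgroup.normalizer (U : Set K) :=
    hSnSE.trans (kl_normalizer_le_normalizer_omZ p SE)
  have hSnU₁ : Sg ≤ Subgroup.normalizer (U₁ : Set K) := by
    intro s hs
    exact mem_normalizer_inf U _ s (hSnU hs) (normalizer_le_normalizer_centralizer X (hSnX hs))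
  obtain ⟨u, huU, huU₁, hus⟩ := kl_fixed_mod Sg U U₁ hSp ((omZ_le p SE).trans hSES) inf_le_left hne hSnU hSnU₁
  obtain ⟨N, hN1, hN2, hN3, hN4, hN5⟩ := kl_norm_exists X SE A hSEX hXA hA
  have huA : u ∈ A := hUA huU
  have hufix : ∀ t ∈ SE, t * u = u * t := huU.2.1
  have hup : u ^ p = 1 := huU.2.2
  -- `N 1 = 1` and `N (a ^ k) = N a ^ k`
  have hN_one : N 1 = 1 := by
    have := hN4 1 A.one_mem 1 A.one_mem
    rw [mul_one] at this
    exact (mul_eq_left.mp this.symm)
  have hN_pow : ∀ a ∈ A, ∀ k : ℕ, N (a ^ k) = N a ^ k := by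
    intro a ha k
    induction k with
    | zero => simp [hN_one]
    | succ k ih => rw [pow_succ, hN4 _ (A.pow_mem ha k) _ ha, ih, pow_succ]
  -- for central elements of `X` in `A` the norm is the `n`-th power
  have hN_central : ∀ a ∈ A, (∀ g ∈ X, g * a = a * g) → N a = a ^ SE.relIndex X := by
    intro a ha hc
    have := hN3 ⊥ bot_le a ha (by
      intro g hg
      rw [Subgroup.mem_bot, hc g hg]; group)
    rw [Subgroup.mem_bot, mul_inv_eq_one] at this
    exact this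
  set n := SE.relIndex X with hn
  set ν := N u with hν
  have hνA : ν ∈ A := hN1 u huA
  have hνX : ∀ g ∈ X, g * ν = ν * g := hN2 u huA hufix
  have hνU : ν ∈ U := by
    refine ⟨hASE hνA, fun s hs => hνX s (hSEX hs), ?_⟩
    rw [hν, ← hN_pow u huA p, hup, hN_one]
  have hνU₁ : ν ∈ U₁ := by
    refine Subgroup.mem_inf.mpr ⟨hνU, ?_⟩
    rw [Subgroup.mem_centralizer_iff]
    intro g hg
    exact hνX g hg
  -- the element `u' = u ^ n * ν⁻¹` is centralized by `S`
  obtain ⟨u', hu'⟩ : ∃ u' : K, u' = u ^ n * ν⁻¹ := ⟨_, rfl⟩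
  have hu'A : u' ∈ A := by rw [hu']; exact A.mul_mem (A.pow_mem huA n) (A.inv_mem hνA)
  have hu'S : ∀ s ∈ Sg, s * u' = u' * s := by
    intro s hs
    set us := s * u * s⁻¹ * u⁻¹ with hus_def
    have husU₁ : us ∈ U₁ := hus s hs
    have husA : us ∈ A := hUA (Subgroup.mem_inf.mp husU₁).1
    have husX : ∀ g ∈ X, g * us = us * g := by
      have := (Subgroup.mem_inf.mp husU₁).2
      rw [Subgroup.mem_centralizer_iff] at this
      intro g hg
      exact this g hg
    have hconj : s * u * s⁻¹ = us * u := by rw [hus_def]; group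
    have h1 : N (s * u * s⁻¹) = s * ν * s⁻¹ :=
      hN5 s (hSnX hs) (hSnSE hs) (hSnA hs) u huA hufix
    have h2 : N (us * u) = us ^ n * ν := by
      rw [hN4 us husA u huA, hN_central us husA husX]
    have h3 : s * ν * s⁻¹ = us ^ n * ν := by rw [← h1, hconj, h2]
    have h4 : s * u ^ n * s⁻¹ = us ^ n * u ^ n := by
      have : s * u ^ n * s⁻¹ = (s * u * s⁻¹) ^ n := by rw [conj_pow]
      rw [this, hconj]
      exact (show Commute us u from hA us husA u huA).mul_pow n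
    -- now compute
    have hc1 : Commute (us ^ n) (u ^ n) := hA _ (A.pow_mem husA n) _ (A.pow_mem huA n)
    have hc2 : Commute (us ^ n) ν⁻¹ := hA _ (A.pow_mem husA n) _ (A.inv_mem hνA)
    have hc3 : Commute (u ^ n) ν⁻¹ := hA _ (A.pow_mem huA n) _ (A.inv_mem hνA)
    have h5 : s * u' * s⁻¹ = u' := by
      have : s * u' * s⁻¹ = (s * u ^ n * s⁻¹) * (s * ν * s⁻¹)⁻¹ := by rw [hu']; group
      rw [this, h3, h4, mul_inv_rev, hu']
      calc us ^ n * u ^ n * (ν⁻¹ * (us ^ n)⁻¹) = u ^ n * (us ^ n * ν⁻¹) * (us ^ n)⁻¹ := by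
            rw [hc1.eq]; group
        _ = u ^ n * (ν⁻¹ * us ^ n) * (us ^ n)⁻¹ := by rw [hc2.eq]
        _ = u ^ n * ν⁻¹ := by group
    calc s * u' = s * u' * s⁻¹ * s := by group
      _ = u' * s := by rw [h5]
  -- hence `u'` is centralized by `X`
  have hu'p : u' ^ p = 1 := by
    have hc3 : Commute (u ^ n) ν⁻¹ := hA _ (A.pow_mem huA n) _ (A.inv_mem hνA)
    rw [hu', hc3.mul_pow, ← pow_mul, mul_comm n p, pow_mul, hup, one_pow, inv_pow, hνU.2.2, inv_one, mul_one]
  have hu'X : ∀ g ∈ X, g * u' = u' * g := by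
    intro g hg
    have hgO : OmZ p Sg g := (Subgroup.mem_inf.mp hg).2
    exact hgO u' (hSES (hASE hu'A)) hu'S hu'p
  -- so `u ^ n = u' * ν` is centralized by `X`, and so is `u`
  have hunX : ∀ g ∈ X, g * u ^ n = u ^ n * g := by
    intro g hg
    have e : u ^ n = u' * ν := by rw [hu']; group
    have k : g * (u' * ν) = (u' * ν) * g := by
      rw [← mul_assoc, hu'X g hg, mul_assoc, hνX g hg, mul_assoc]
    calc g * u ^ n = g * (u' * ν) := congrArg (fun w => g * w) e
      _ = (u' * ν) * g := k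
      _ = u ^ n * g := (congrArg (fun w => w * g) e).symm
  obtain ⟨a, ha⟩ := kl_exists_zpow hidx u hup
  apply huU₁
  refine Subgroup.mem_inf.mpr ⟨huU, ?_⟩
  rw [Subgroup.mem_centralizer_iff]
  intro g hg
  have hc : Commute g (u ^ n) := hunX g hg
  have := (hc.zpow_right a).eq
  rw [ha] at this
  exact this

end Cfsg.Agent.Kieler
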