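import Mathlib
import Cfsg.Agent.Kieler.Defs
import Cfsg.Agent.Kieler.Norm
import Cfsg.Agent.Kieler.Down

/-!
Kieler Lemma package, P2: `C_E(Ω₁Z(S ∩ E)) ≤ C_E(Ω₁Z(S))` for `E ⊴ K`, `K` of characteristic `p`.
-/

set_option autoImplicit false

namespace Cfsg.Agent.Kieler

open Cfsg.Agent.Helper5

theorem kl_normal_up {K : Type*} [Group K] [Finite K] {p : ℕ} [Fact p.Prime]
    (hK : HasCharP p K) (E : Subgroup K) [E.Normal] (S : Sylow p K) {x : K} (hx : x ∈ E)
    (h : OmZ p ((S : Subgroup K) ⊓ E) x) : OmZ p (S : Subgroup K) x := by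
  classical
  have hEn : E.Normal := inferInstance
  intro z hzS hzc hzp
  set Sg : Subgroup K := (S : Subgroup K) with hSg
  set SE : Subgroup K := Sg ⊓ E with hSE
  have hSEE : SE ≤ E := inf_le_right
  have hSES : SE ≤ Sg := inf_le_left
  -- `Q_E = O_p(E)` in the ambient group
  set QE : Subgroup K := (Cfsg.pCore p ↥E).map E.subtype with hQE
  have hQEE : QE ≤ E := pCore_map_subtype_le p E
  have hQEp : IsPGroup p ↥QE := isPGroup_pCore_map_subtype p E
  have hnormE : Subgroup.normalizer (E : Set K) = ⊤ := Subgroup.normalizer_eq_top_iff.mpr hEn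
  have hQEnorm : ∀ g : K, g ∈ Subgroup.normalizer (QE : Set K) := by
    intro g
    apply normalizer_le_normalizer_pCore_map_subtype p E
    rw [hnormE]; exact Subgroup.mem_top g
  have hQEN : QE.Normal := by
    constructor
    intro n hn g
    exact conj_mem_of_mem_normalizer QE g (hQEnorm g) n hn
  have hQES : QE ≤ Sg := (le_pCore hQEN hQEp).trans (pCore_le_sylow S)
  have hQESE : QE ≤ SE := le_inf hQES hQEE
  -- `E` has characteristic `p`
  have hEchar : HasCharP p ↥E := hK.of_normal E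
  have hcharE : ∀ c ∈ E, (∀ q ∈ QE, c * q = q * c) → c ∈ QE := by
    intro c hc hcq
    have h1 : (⟨c, hc⟩ : ↥E) ∈ Subgroup.centralizer (Cfsg.pCore p ↥E : Set ↥E) := by
      rw [mem_centralizer_pCore_iff, Subgroup.mem_centralizer_iff]
      intro q hq
      exact (hcq q hq).symm
    have h2 := hEchar h1
    exact ⟨⟨c, hc⟩, h2, rfl⟩
  -- `z` centralizes `Q_E`
  have hzQ : ∀ q ∈ QE, q * z = z * q := fun q hq => hzc q (hQES hq)
  -- the commutators `a_g`
  set B : Subgroup K := QE ⊓ Subgroup.centralizer (QE : Set K) with hB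
  have hag : ∀ g ∈ E, g * z * g⁻¹ * z⁻¹ ∈ B := by
    intro g hg
    have hE1 : g * z * g⁻¹ * z⁻¹ ∈ E := by
      have : z * g⁻¹ * z⁻¹ ∈ E := hEn.conj_mem g⁻¹ (E.inv_mem hg) z
      have h2 : g * z * g⁻¹ * z⁻¹ = g * (z * g⁻¹ * z⁻¹) := by group
      rw [h2]; exact E.mul_mem hg this
    have hcq : ∀ q ∈ QE, (g * z * g⁻¹ * z⁻¹) * q = q * (g * z * g⁻¹ * z⁻¹) := by
      intro q hq
      have hq' : g⁻¹ * q * g ∈ QE := conj_inv_mem_of_mem_normalizer QE g (hQEnorm g) q hq
      have h1 : (g⁻¹ * q * g) * z = z * (g⁻¹ * q * g) := hzQ _ hq'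
      have h2 : q * z = z * q := hzQ q hq
      have h2' : z⁻¹ * q = q * z⁻¹ := by
        calc z⁻¹ * q = z⁻¹ * (q * z) * z⁻¹ := by group
          _ = z⁻¹ * (z * q) * z⁻¹ := by rw [h2]
          _ = q * z⁻¹ := by group
      have h3 : (g * z * g⁻¹) * q = q * (g * z * g⁻¹) := by
        calc (g * z * g⁻¹) * q = g * (z * (g⁻¹ * q * g)) * g⁻¹ := by group
          _ = g * ((g⁻¹ * q * g) * z) * g⁻¹ := by rw [h1]
          _ = q * (g * z * g⁻¹) := by group
      calc (g * z * g⁻¹ * z⁻¹) * q = (g * z * g⁻¹) * (z⁻¹ * q) := by group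
        _ = (g * z * g⁻¹) * (q * z⁻¹) := by rw [h2']
        _ = ((g * z * g⁻¹) * q) * z⁻¹ := by group
        _ = (q * (g * z * g⁻¹)) * z⁻¹ := by rw [h3]
        _ = q * (g * z * g⁻¹ * z⁻¹) := by group
    have hQ1 : g * z * g⁻¹ * z⁻¹ ∈ QE := hcharE _ hE1 hcq
    refine Subgroup.mem_inf.mpr ⟨hQ1, ?_⟩
    rw [Subgroup.mem_centralizer_iff]
    intro q hq
    exact (hcq q hq).symm
  -- the abelian group `A = Z(W)`, `W = Q_E ⊔ ⟨z⟩`
  set W : Subgroup K := QE ⊔ Subgroup.zpowers z with hW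
  set A : Subgroup K := W ⊓ Subgroup.centralizer (W : Set K) with hAdef
  have hA : ∀ a ∈ A, ∀ b ∈ A, a * b = b * a := by
    intro a ha b hb
    have h1 := (Subgroup.mem_inf.mp hb).2
    rw [Subgroup.mem_centralizer_iff] at h1
    exact h1 a (Subgroup.mem_inf.mp ha).1
  have hzW : z ∈ W := (le_sup_right : Subgroup.zpowers z ≤ W) (Subgroup.mem_zpowers z)
  have hQEW : QE ≤ W := le_sup_left
  -- `W ≤ C(z)`
  have hWz : ∀ y ∈ W, y * z = z * y := by
    have hle : W ≤ Subgroup.centralizer ({z} : Set K) := by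
      rw [hW]
      apply sup_le
      · intro q hq
        rw [Subgroup.mem_centralizer_singleton_iff]
        exact hzQ q hq
      · rw [Subgroup.zpowers_le]
        rw [Subgroup.mem_centralizer_singleton_iff]
    intro y hy
    have := hle hy
    rw [Subgroup.mem_centralizer_singleton_iff] at this
    exact this
  have hzA : z ∈ A := by
    refine Subgroup.mem_inf.mpr ⟨hzW, ?_⟩
    rw [Subgroup.mem_centralizer_iff]
    intro y hy
    exact hWz y hy
  have hBA : B ≤ A := by
    intro b hb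
    obtain ⟨hbQ, hbc⟩ := Subgroup.mem_inf.mp hb
    rw [Subgroup.mem_centralizer_iff] at hbc
    refine Subgroup.mem_inf.mpr ⟨hQEW hbQ, ?_⟩
    -- `W ≤ C(b)`
    have hle : W ≤ Subgroup.centralizer ({b} : Set K) := by
      rw [hW]
      apply sup_le
      · intro q hq
        rw [Subgroup.mem_centralizer_singleton_iff]
        exact hbc q hq
      · rw [Subgroup.zpowers_le]
        rw [Subgroup.mem_centralizer_singleton_iff]
        exact (hzQ b hbQ).symm
    rw [Subgroup.mem_centralizer_iff]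
    intro y hy
    have := hle hy
    rw [Subgroup.mem_centralizer_singleton_iff] at this
    exact this
  -- `E` normalizes `W`, hence `A`
  have hconjW : ∀ g ∈ E, ∀ y ∈ W, g * y * g⁻¹ ∈ W := by
    intro g hg y hy
    have hle : W ≤ (W.comap (MulAut.conj g).toMonoidHom) := by
      rw [hW]
      apply sup_le
      · intro q hq
        rw [Subgroup.mem_comap]
        have : g * q * g⁻¹ ∈ QE := conj_mem_of_mem_normalizer QE g (hQEnorm g) q hq
        exact hQEW (by simpa using this)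
      · rw [Subgroup.zpowers_le, Subgroup.mem_comap]
        have h1 : g * z * g⁻¹ * z⁻¹ ∈ W := hQEW (Subgroup.mem_inf.mp (hag g hg)).1
        have h2 : g * z * g⁻¹ = (g * z * g⁻¹ * z⁻¹) * z := by group
        have : g * z * g⁻¹ ∈ W := by rw [h2]; exact W.mul_mem h1 hzW
        simpa using this
    have := hle hy
    rw [Subgroup.mem_comap] at this
    simpa using this
  have hEnW : E ≤ Subgroup.normalizer (W : Set K) := by
    intro g hg
    apply mem_normalizer_of_conj_mem_both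
    · exact hconjW g hg
    · intro y hy
      have := hconjW g⁻¹ (E.inv_mem hg) y hy
      simpa using this
  have hEA : E ≤ Subgroup.normalizer (A : Set K) := by
    intro g hg
    exact mem_normalizer_inf W _ g (hEnW hg) (normalizer_le_normalizer_centralizer W (hEnW hg))
  -- the norm
  obtain ⟨N, hN1, hN2, hN3, hN4, -⟩ := kl_norm_exists E SE A hSEE hEA hA
  have hN_one : N 1 = 1 := by
    have := hN4 1 A.one_mem 1 A.one_mem
    rw [mul_one] at this
    exact (mul_eq_left.mp this.symm)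
  have hN_pow : ∀ a ∈ A, ∀ k : ℕ, N (a ^ k) = N a ^ k := by
    intro a ha k
    induction k with
    | zero => simp [hN_one]
    | succ k ih => rw [pow_succ, hN4 _ (A.pow_mem ha k) _ ha, ih, pow_succ]
  set n := SE.relIndex E with hn
  have hidx : ¬ p ∣ n := by
    have h1 : ¬ p ∣ Sg.relIndex E := Cfsg.Agent.Helper1.sylow_relIndex_subnormal p S hEn.isSubnormal
    have h2 : SE.relIndex E = Sg.relIndex E := Subgroup.inf_relIndex_right Sg E
    rw [hn, h2]; exact h1
  set w := N z with hw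
  have hwA : w ∈ A := hN1 z hzA
  have hzfix : ∀ t ∈ SE, t * z = z * t := fun t ht => hzc t (hSES ht)
  have hwE : ∀ g ∈ E, g * w = w * g := hN2 z hzA hzfix
  have hwB : w * (z ^ n)⁻¹ ∈ B := hN3 B hBA z hzA hag
  set a := w * (z ^ n)⁻¹ with ha
  have haSE : a ∈ SE := hQESE (Subgroup.mem_inf.mp hwB).1
  have hznA : z ^ n ∈ A := A.pow_mem hzA n
  have hcomm : Commute w (z ^ n)⁻¹ := hA _ hwA _ (A.inv_mem hznA)
  have hwp : w ^ p = 1 := by rw [hw, ← hN_pow z hzA p, hzp, hN_one]
  have hap : a ^ p = 1 := by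
    rw [ha, hcomm.mul_pow, hwp, one_mul, inv_pow, ← pow_mul, mul_comm n p, pow_mul, hzp, one_pow, inv_one]
  have hzn_c : ∀ s ∈ SE, s * z ^ n = z ^ n * s := by
    intro s hs
    have hc : Commute s z := hzfix s hs
    exact (hc.pow_right n).eq
  have hac : ∀ s ∈ SE, s * a = a * s := by
    intro s hs
    have h1 : s * w = w * s := hwE s (hSEE hs)
    have h2 : s * z ^ n = z ^ n * s := hzn_c s hs
    have h2' : s * (z ^ n)⁻¹ = (z ^ n)⁻¹ * s := by
      calc s * (z ^ n)⁻¹ = (z ^ n)⁻¹ * (z ^ n * s) * (z ^ n)⁻¹ := by group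
        _ = (z ^ n)⁻¹ * (s * z ^ n) * (z ^ n)⁻¹ := by rw [h2]
        _ = (z ^ n)⁻¹ * s := by group
    calc s * a = (s * w) * (z ^ n)⁻¹ := by rw [ha]; group
      _ = (w * s) * (z ^ n)⁻¹ := by rw [h1]
      _ = w * (s * (z ^ n)⁻¹) := by group
      _ = w * ((z ^ n)⁻¹ * s) := by rw [h2']
      _ = a * s := by rw [ha]; group
  -- `x` commutes with `a` and `w`, hence with `z ^ n`
  have hxa : x * a = a * x := h a haSE hac hap
  have hxw : x * w = w * x := hwE x hx
  have hzn_eq : z ^ n = a⁻¹ * w := by rw [ha]; group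
  have hxa' : x * a⁻¹ = a⁻¹ * x := by
    calc x * a⁻¹ = a⁻¹ * (a * x) * a⁻¹ := by group
      _ = a⁻¹ * (x * a) * a⁻¹ := by rw [hxa]
      _ = a⁻¹ * x := by group
  have hxzn : x * z ^ n = z ^ n * x := by
    rw [hzn_eq]
    calc x * (a⁻¹ * w) = (x * a⁻¹) * w := by group
      _ = (a⁻¹ * x) * w := by rw [hxa']
      _ = a⁻¹ * (x * w) := by group
      _ = a⁻¹ * (w * x) := by rw [hxw]
      _ = a⁻¹ * w * x := by group
  obtain ⟨e, he⟩ := kl_exists_zpow hidx z hzp
  have hc : Commute x (z ^ n) := hxzn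
  have := (hc.zpow_right e).eq
  rw [he] at this
  exact this

end Cfsg.Agent.Kieler
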