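import Mathlib
import Cfsg.Agent.Kieler.Up
import Cfsg.Agent.Kieler.Down
import Cfsg.Agent.Helper1.Subnormal

/-!
Kieler Lemma package, P4: the Kieler Lemma for subnormal subgroups of a group of local characteristic `p`.
-/

set_option autoImplicit false

namespace Cfsg.Agent.Kieler

open Cfsg.Agent.Helper5

section

variable {H : Type*} [Group H]

/-- `OmZ` computed inside a subgroup `M` containing `R`. -/
theorem kl_omZ_subgroupOf_iff (p : ℕ) (M R : Subgroup H) (hRM : R ≤ M) (x : ↥M) :
    OmZ p (R.subgroupOf M) x ↔ OmZ p R (x : H) := by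
  constructor
  · intro h z hz hzc hzp
    have h1 := h ⟨z, hRM hz⟩ (by rw [Subgroup.mem_subgroupOf]; exact hz)
      (by
        intro s hs
        rw [Subgroup.mem_subgroupOf] at hs
        exact Subtype.ext (hzc s hs))
      (Subtype.ext (by simpa using hzp))
    exact congrArg Subtype.val h1
  · intro h z hz hzc hzp
    rw [Subgroup.mem_subgroupOf] at hz
    apply Subtype.ext
    have h1 := h z hz (fun s hs => by
        have h2 := hzc ⟨s, hRM hs⟩ (by rw [Subgroup.mem_subgroupOf]; exact hs)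
        exact congrArg Subtype.val h2)
      (by have h3 := congrArg Subtype.val hzp; simpa using h3)
    simpa using h1

/-- The normal step inside a subgroup `M` of characteristic `p` in which `R` is a Sylow `p`-subgroup and which
normalizes `E`. -/
theorem kl_ns_in [Finite H] {p : ℕ} [Fact p.Prime] (M E R : Subgroup H) (hM : HasCharP p ↥M)
    (hRM : R ≤ M) (hRp : IsPGroup p ↥R) (hRi : ¬ p ∣ R.relIndex M)
    (hEM : M ≤ Subgroup.normalizer (E : Set H)) {x : H} (hxE : x ∈ E) (hxM : x ∈ M) :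
    OmZ p R x ↔ OmZ p (R ⊓ E) x := by
  have hRp' : IsPGroup p ↥(R.subgroupOf M) := hRp.comap_of_injective M.subtype M.subtype_injective
  set S' : Sylow p ↥M := hRp'.toSylow hRi with hS'
  have hS'coe : (S' : Subgroup ↥M) = R.subgroupOf M := IsPGroup.toSylow_coe _ _
  have hEn : (E.subgroupOf M).Normal := by
    constructor
    intro n hn g
    rw [Subgroup.mem_subgroupOf] at hn ⊢
    exact conj_mem_of_mem_normalizer E g (hEM g.2) n hn
  have hinf : (S' : Subgroup ↥M) ⊓ E.subgroupOf M = (R ⊓ E).subgroupOf M := by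
    rw [hS'coe]
    ext y
    simp [Subgroup.mem_subgroupOf]
  have hxE' : (⟨x, hxM⟩ : ↥M) ∈ E.subgroupOf M := by rw [Subgroup.mem_subgroupOf]; exact hxE
  have e1 := kl_omZ_subgroupOf_iff p M R hRM ⟨x, hxM⟩
  have e2 := kl_omZ_subgroupOf_iff p M (R ⊓ E) (inf_le_left.trans hRM) ⟨x, hxM⟩
  rw [← hS'coe] at e1
  rw [← hinf] at e2
  rw [← e1, ← e2]
  exact ⟨kl_normal_down hM (E.subgroupOf M) S' hxE', kl_normal_up hM (E.subgroupOf M) S' hxE'⟩

/-- In a group of local characteristic `p`, `K ∩ N_H(Z)` has characteristic `p` for `K` subnormal and `Z` a nontrivial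
`p`-subgroup. -/
theorem kl_hasCharP_local [Finite H] {p : ℕ} [Fact p.Prime] (hH : Cfsg.IsOfLocalCharacteristic p H)
    (K : Subgroup H) (hK : K.IsSubnormal) (Z : Subgroup H) (hZp : IsPGroup p ↥Z) (hZ1 : Z ≠ ⊥) :
    HasCharP p ↥(K ⊓ Subgroup.normalizer (Z : Set H)) := by
  have hN : HasCharP p ↥(Subgroup.normalizer (Z : Set H)) := hH.2 Z hZp hZ1
  have h1 : HasCharP p ↥(K.subgroupOf (Subgroup.normalizer (Z : Set H))) :=
    hN.of_subnormal _ hK.subgroupOf
  rw [← Subgroup.inf_subgroupOf_right K (Subgroup.normalizer (Z : Set H))] at h1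
  exact h1.of_equiv (Subgroup.subgroupOfEquivOfLe inf_le_right)

/-- The normal step of the Kieler Lemma, given a nontrivial subgroup `R` of `T ∩ K` normalized by `T ∩ K`
with `x ∈ C(Ω₁Z(R))`. -/
theorem kl_ns_step [Finite H] {p : ℕ} [Fact p.Prime] (hH : Cfsg.IsOfLocalCharacteristic p H)
    (T : Sylow p H) (K E : Subgroup H) (hK : K.IsSubnormal) (hEK : E ≤ K)
    (hEn : (E.subgroupOf K).Normal) (R : Subgroup H) (hRT : R ≤ (T : Subgroup H) ⊓ K) (hR1 : R ≠ ⊥)
    (hRn : (T : Subgroup H) ⊓ K ≤ Subgroup.normalizer (R : Set H)) {x : H} (hxE : x ∈ E)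
    (hxR : OmZ p R x) :
    OmZ p ((T : Subgroup H) ⊓ K) x ↔ OmZ p ((T : Subgroup H) ⊓ K ⊓ E) x := by
  have hp : p.Prime := Fact.out
  have hTp : IsPGroup p ↥(T : Subgroup H) := T.isPGroup'
  have hRp : IsPGroup p ↥R := hTp.to_le (hRT.trans inf_le_left)
  have hZp : IsPGroup p ↥(omZ p R) := hRp.to_le (omZ_le p R)
  have hZ1 : omZ p R ≠ ⊥ := by
    obtain ⟨z, hzR, hzo, hzc⟩ :=
      exists_orderOf_eq_prime_central R R hRp le_rfl hR1 Subgroup.le_normalizer
    intro hbot
    have hz : z ∈ omZ p R := ⟨hzR, hzc, by rw [← hzo]; exact pow_orderOf_eq_one z⟩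
    rw [hbot, Subgroup.mem_bot] at hz
    rw [hz, orderOf_one] at hzo
    exact hp.one_lt.ne hzo
  have hM : HasCharP p ↥(K ⊓ Subgroup.normalizer ((omZ p R : Subgroup H) : Set H)) :=
    kl_hasCharP_local hH K hK (omZ p R) hZp hZ1
  have hRKM : (T : Subgroup H) ⊓ K ≤ K ⊓ Subgroup.normalizer ((omZ p R : Subgroup H) : Set H) :=
    le_inf inf_le_right (hRn.trans (kl_normalizer_le_normalizer_omZ p R))
  have hRKp : IsPGroup p ↥((T : Subgroup H) ⊓ K) := hTp.to_le inf_le_left
  have hidx : ¬ p ∣ ((T : Subgroup H) ⊓ K).relIndex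
      (K ⊓ Subgroup.normalizer ((omZ p R : Subgroup H) : Set H)) := by
    have h1 := Cfsg.Agent.Helper1.sylow_relIndex_subnormal p T hK
    rw [← Subgroup.inf_relIndex_right] at h1
    have h2 := Subgroup.relIndex_mul_relIndex ((T : Subgroup H) ⊓ K)
      (K ⊓ Subgroup.normalizer ((omZ p R : Subgroup H) : Set H)) K hRKM inf_le_left
    intro hdvd
    apply h1
    rw [← h2]
    exact Dvd.dvd.mul_right hdvd _
  have hEM : K ⊓ Subgroup.normalizer ((omZ p R : Subgroup H) : Set H) ≤
      Subgroup.normalizer (E : Set H) :=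
    inf_le_left.trans ((Subgroup.normal_subgroupOf_iff_le_normalizer hEK).mp hEn)
  have hxM : x ∈ K ⊓ Subgroup.normalizer ((omZ p R : Subgroup H) : Set H) := by
    refine Subgroup.mem_inf.mpr ⟨hEK hxE, ?_⟩
    apply Subgroup.centralizer_le_normalizer
    rw [Subgroup.mem_centralizer_iff]
    intro z hz
    exact (hxR z hz.1 hz.2.1 hz.2.2).symm
  exact kl_ns_in _ E ((T : Subgroup H) ⊓ K) hM hRKM hRKp hidx hEM hxE hxM

end

/-- **Kieler Lemma** (local characteristic `p`, subnormal `E`): a `p`-element `x` of `E` centralizes `Ω₁Z(T)` iff it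
centralizes `Ω₁Z(T ∩ E)`. -/
theorem kl_subnormal {H : Type*} [Group H] [Finite H] {p : ℕ} [Fact p.Prime]
    (hH : Cfsg.IsOfLocalCharacteristic p H) (T : Sylow p H) (E : Subgroup H) (hE : E.IsSubnormal)
    {x : H} (hx : x ∈ E) (hxp : ∃ k : ℕ, orderOf x = p ^ k) :
    OmZ p (T : Subgroup H) x ↔ OmZ p ((T : Subgroup H) ⊓ E) x := by
  induction hE generalizing x with
  | top => rw [inf_top_eq]
  | step E K h_le hSubn hN ih =>
    rw [ih (h_le hx) hxp]
    have hp : p.Prime := Fact.out
    have hinf : (T : Subgroup H) ⊓ K ⊓ E = (T : Subgroup H) ⊓ E := by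
      rw [inf_assoc, inf_eq_right.mpr h_le]
    have hEsub : E.IsSubnormal := Subgroup.IsSubnormal.step E K h_le hSubn hN
    have hKnE : K ≤ Subgroup.normalizer (E : Set H) :=
      (Subgroup.normal_subgroupOf_iff_le_normalizer h_le).mp hN
    by_cases hbot : (T : Subgroup H) ⊓ E = ⊥
    · -- then `x = 1`
      have hx1 : x = 1 := by
        obtain ⟨Q, hQ⟩ := Cfsg.Agent.Helper1.sylow_inf_subnormal p E hEsub T
        have hQbot : (Q : Subgroup ↥E) = ⊥ := by
          rw [hQ, eq_bot_iff]
          intro y hy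
          rw [Subgroup.mem_subgroupOf] at hy
          have hy' : (y : H) ∈ (T : Subgroup H) ⊓ E := Subgroup.mem_inf.mpr ⟨hy, y.2⟩
          rw [hbot, Subgroup.mem_bot] at hy'
          rw [Subgroup.mem_bot]
          exact Subtype.ext hy'
        have hnd : ¬ p ∣ Nat.card ↥E := by
          have h1 := Q.not_dvd_index
          have h2 := Subgroup.card_mul_index (Q : Subgroup ↥E)
          rw [hQbot, Subgroup.card_bot, one_mul] at h2
          rw [hQbot] at h1
          rwa [h2] at h1
        obtain ⟨k, hk⟩ := hxp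
        have hdvd : orderOf (⟨x, hx⟩ : ↥E) ∣ Nat.card ↥E := orderOf_dvd_natCard _
        have hord : orderOf (⟨x, hx⟩ : ↥E) = orderOf x := by
          rw [← Subgroup.orderOf_coe]
        rw [hord, hk] at hdvd
        rcases Nat.eq_zero_or_pos k with hk0 | hkpos
        · rw [hk0, pow_zero] at hk
          exact orderOf_eq_one_iff.mp hk
        · exact absurd ((dvd_pow_self p hkpos.ne').trans hdvd) hnd
      rw [hx1]
      exact ⟨fun _ => OmZ.one p _, fun _ => OmZ.one p _⟩
    · have hTKn : (T : Subgroup H) ⊓ K ≤ Subgroup.normalizer (((T : Subgroup H) ⊓ E : Subgroup H) : Set H) := by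
        intro g hg
        obtain ⟨hgT, hgK⟩ := Subgroup.mem_inf.mp hg
        exact mem_normalizer_inf _ _ g (Subgroup.le_normalizer hgT) (hKnE hgK)
      have hbotK : (T : Subgroup H) ⊓ K ≠ ⊥ := by
        intro h
        apply hbot
        rw [eq_bot_iff, ← h]
        exact inf_le_inf_left _ h_le
      constructor
      · intro h
        have := kl_ns_step hH T K E hSubn h_le hN ((T : Subgroup H) ⊓ K) le_rfl hbotK
          Subgroup.le_normalizer hx h
        rw [hinf] at this
        exact this.mp h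
      · intro h
        have := kl_ns_step hH T K E hSubn h_le hN ((T : Subgroup H) ⊓ E)
          (inf_le_inf_left _ h_le) hbot hTKn hx h
        rw [hinf] at this
        exact this.mpr h

end Cfsg.Agent.Kieler
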